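import Groth.Prelude.Def_W4c2ratcurvhypCodim
import Groth.Agent.H25Param.PolyFun
import Mathlib

/-!
Codimension of a subset from equations in coordinates.
-/

set_option autoImplicit false
universe u

namespace Groth.Agent.H7Lines
open MvPolynomial

/-- equations vanishing on `D` bound its codimension from below. -/
theorem codimGE_of_equations {σ : Type} [Fintype σ] {D : Set (σ → ℂ)}
    (J : Ideal (MvPolynomial σ ℂ)) (hJ : ∀ P ∈ J, ∀ w ∈ D, eval w P = 0) (c : ℕ)
    (hc : (c : ℕ∞) ≤ J.height) : LefPen.CodimGE ℂ D c := by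
  classical
  let b := Pi.basisFun ℂ σ
  let Θ0 : MvPolynomial σ ℂ →ₐ[ℂ] ((σ → ℂ) → ℂ) := aeval fun i w => w i
  have hΘ0 : ∀ P w, Θ0 P w = eval w P := by
    intro P w
    show Pi.evalAlgHom ℂ (fun _ : σ → ℂ => ℂ) w (Θ0 P) = _
    rw [← AlgHom.comp_apply]
    show _ = aeval w P
    congr 1
    exact MvPolynomial.algHom_ext fun i => by simp [Θ0]
  have hrange : ∀ P, Θ0 P ∈ LefPen.polyFunAlg ℂ (σ → ℂ) := by
    intro P
    rw [show Θ0 P = fun w => eval (fun i => b.coord i w) P by
      funext w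
      rw [hΘ0]
      congr 2]
    exact H25Param.isPolyFun_eval (fun i => b.coord i) P
  let Θ : MvPolynomial σ ℂ →ₐ[ℂ] ↥(LefPen.polyFunAlg ℂ (σ → ℂ)) := Θ0.codRestrict _ hrange
  have hbij : Function.Bijective Θ := by
    refine ⟨fun P Q h => MvPolynomial.funext fun w => ?_, fun f => ?_⟩
    · have := congrArg (fun F : ↥(LefPen.polyFunAlg ℂ (σ → ℂ)) => F.1 w) h
      simp only [Θ, AlgHom.coe_codRestrict] at this
      rwa [hΘ0, hΘ0] at this
    · obtain ⟨P, hP⟩ := H25Param.exists_eval_of_isPolyFun b f.2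
      refine ⟨P, Subtype.ext (funext fun w => ?_)⟩
      simp only [Θ, AlgHom.coe_codRestrict]
      rw [hΘ0, hP w]
      congr 2
  let e := AlgEquiv.ofBijective Θ hbij
  have hle : J ≤ (LefPen.vanishingFun ℂ D).comap e.toRingEquiv := fun P hP => by
    show ∀ w ∈ D, Θ0 P w = 0
    intro w hw
    rw [hΘ0]; exact hJ P hP w hw
  refine le_trans hc ?_
  rw [← RingEquiv.height_comap e.toRingEquiv (LefPen.vanishingFun ℂ D)]
  exact Ideal.height_mono hle

end Groth.Agent.H7Lines
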