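import Groth.Agent.H7Lines.Expand
import Groth.Agent.H7Lines.PolyIdeal
import Groth.Agent.H7HypSeq.Main

/-!
If the polar forms of a form at a point are in general position, the lines through the point have
the expected dimension.
-/

set_option autoImplicit false
universe u

namespace Groth.Agent.H7Lines
open MvPolynomial Groth.Agent.H7HypSeq
open Groth.Agent.H8Props

variable {m d : ℕ}

/-- the polar forms of `f` at `[1 : a]`. -/
noncomputable def polar (i0 : Fin (m + 2)) (a : Fin (m + 1) → ℂ)
    (f : MvPolynomial (Fin (m + 2)) ℂ) : Tup m d ℂ :=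
  (coordEquiv m d ℂ).symm fun i => coeff (toExp i0 i) (aeval (shear i0 a) f)

theorem coord_polar (i0 : Fin (m + 2)) (a : Fin (m + 1) → ℂ)
    (f : MvPolynomial (Fin (m + 2)) ℂ) :
    coord (polar (d := d) i0 a f) = fun i : Idx m d => coeff (toExp i0 i) (aeval (shear i0 a) f) :=
  (coordEquiv m d ℂ).apply_symm_apply _

theorem eq_assemble_polar (i0 : Fin (m + 2)) (a : Fin (m + 1) → ℂ)
    (f : MvPolynomial (Fin (m + 2)) ℂ) (hf : f.IsHomogeneous d)
    (h0 : eval (Fin.insertNth (α := fun _ => ℂ) i0 1 a) f = 0) :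
    f = assemble i0 (coord (polar (d := d) i0 a f)) a := by
  rw [coord_polar]
  exact eq_assemble i0 a f hf h0

theorem eval_aeval_pullVar (i0 : Fin (m + 2)) (a : Fin (m + 1) → ℂ) (w : Fin (m + 2) → ℂ)
    (H : MvPolynomial (Fin (m + 1)) ℂ) :
    eval w (aeval (pullVar i0 a) H) = eval (fun k => w (i0.succAbove k) - a k * w i0) H := by
  rw [show eval w (aeval (pullVar i0 a) H) = aeval (fun k => eval w (pullVar i0 a k)) H from
    comp_aeval_apply (pullVar i0 a) (aeval w) H]
  show aeval _ H = aeval _ H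
  congr 2
  funext k
  simp [pullVar]

theorem codimGE_cone (hd : d ≤ m) (i0 : Fin (m + 2)) (a : Fin (m + 1) → ℂ)
    (f : MvPolynomial (Fin (m + 2)) ℂ) (hf : f.IsHomogeneous d)
    (h0 : eval (Fin.insertNth (α := fun _ => ℂ) i0 1 a) f = 0)
    (hgood : polar (d := d) i0 a f ∉ badSet m d) :
    LefPen.CodimGE ℂ {w : Fin (m + 2) → ℂ | ∀ s t : ℂ,
      eval (s • Fin.insertNth (α := fun _ => ℂ) i0 1 a + t • w) f = 0} d := by
  classical
  set G := polar (d := d) i0 a f with hG
  let ι : MvPolynomial (Fin (m + 1)) ℂ →ₐ[ℂ] MvPolynomial (Fin (m + 2)) ℂ := aeval (pullVar i0 a)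
  let J : Ideal (MvPolynomial (Fin (m + 2)) ℂ) := Ideal.span (Set.range fun j => ι (G j).1)
  refine codimGE_of_equations J ?_ d ?_
  · intro P hP w hw
    refine (Ideal.span_le.mpr ?_ : J ≤ RingHom.ker (eval w)) hP
    rintro _ ⟨j, rfl⟩
    show eval w (ι (G j).1) = 0
    rw [eval_aeval_pullVar]
    set y : Fin (m + 1) → ℂ := fun k => w (i0.succAbove k) - a k * w i0
    let pol : Polynomial ℂ :=
      ∑ j : Fin d, Polynomial.C (eval y (G j).1) * Polynomial.X ^ (d - 1 - j.1)
    have hpol : pol = 0 := by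
      refine Polynomial.funext fun s => ?_
      rw [Polynomial.eval_zero]
      have h := hw (s - w i0) 1
      rw [eq_assemble_polar i0 a f hf h0, assemble, map_sum] at h
      refine Eq.trans ?_ h
      rw [Polynomial.eval_finset_sum]
      refine Finset.sum_congr rfl fun j _ => ?_
      rw [map_mul, map_pow, eval_X, eval_aeval_pullVar, Polynomial.eval_mul, Polynomial.eval_C,
        Polynomial.eval_pow, Polynomial.eval_X, mul_comm, formOf_coord]
      congr 1
      · simp
      · congr 2
        funext k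
        simp only [y, Pi.add_apply, Pi.smul_apply, smul_eq_mul, Fin.insertNth_apply_succAbove,
          Fin.insertNth_apply_same]
        ring
    have := congrArg (fun p => Polynomial.coeff p (d - 1 - j.1)) hpol
    simp only [pol, Polynomial.finset_sum_coeff, Polynomial.coeff_C_mul_X_pow,
      Polynomial.coeff_zero] at this
    rw [Finset.sum_eq_single j] at this
    · simpa using this
    · intro b _ hb
      rw [if_neg]
      intro h
      exact hb (Fin.ext (by have := b.2; have := j.2; omega))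
    · simp
  · rw [Ideal.height_eq_inf_minimalPrimes]
    refine le_iInf₂ fun P hP => ?_
    haveI := hP.1.1
    let P0 := P.comap ι.toRingHom
    haveI : P0.IsPrime := Ideal.IsPrime.comap _
    haveI : Algebra.FiniteType ℂ (MvPolynomial (Fin (m + 1)) ℂ ⧸ P0) :=
      Algebra.FiniteType.of_surjective (Ideal.Quotient.mkₐ ℂ P0) Ideal.Quotient.mk_surjective
    haveI : Algebra.FiniteType ℂ (MvPolynomial (Fin (m + 2)) ℂ ⧸ P) :=
      Algebra.FiniteType.of_surjective (Ideal.Quotient.mkₐ ℂ P) Ideal.Quotient.mk_surjective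
    have hle0 : Ideal.span (Set.range fun j => (G j).1) ≤ P0 := by
      rw [Ideal.span_le]
      rintro _ ⟨j, rfl⟩
      exact hP.1.2 (Ideal.subset_span ⟨j, rfl⟩)
    obtain ⟨s0, hs0, -⟩ := FieldDim.exists_dim_trdeg ℂ (MvPolynomial (Fin (m + 1)) ℂ ⧸ P0)
    have hs0le : s0 + d ≤ m + 1 := by
      by_contra hlt
      refine hgood ?_
      refine le_trans ?_ ((ringKrullDim_le_of_surjective (Ideal.Quotient.factor hle0)
        (Ideal.Quotient.factor_surjective hle0)))
      rw [hs0]
      exact_mod_cast (show m + 2 - d ≤ s0 by omega)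
    let q : MvPolynomial (Fin (m + 1)) ℂ ⧸ P0 →+* MvPolynomial (Fin (m + 2)) ℂ ⧸ P :=
      Ideal.quotientMap P ι.toRingHom le_rfl
    let θ : Polynomial (MvPolynomial (Fin (m + 1)) ℂ ⧸ P0) →+* MvPolynomial (Fin (m + 2)) ℂ ⧸ P :=
      Polynomial.eval₂RingHom q (Ideal.Quotient.mk P (X i0))
    have hθ : Function.Surjective θ := by
      intro z
      obtain ⟨z, rfl⟩ := Ideal.Quotient.mk_surjective z
      show Ideal.Quotient.mk P z ∈ θ.range
      induction z using MvPolynomial.induction_on with
      | C r => exact ⟨Polynomial.C (Ideal.Quotient.mk P0 (C r)), by simp [θ, q, ι]⟩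
      | add p p' hp hp' => rw [map_add]; exact add_mem hp hp'
      | mul_X p l hp =>
        rw [map_mul]
        refine mul_mem hp ?_
        rcases eq_or_ne l i0 with rfl | hl
        · exact ⟨Polynomial.X, by simp [θ]⟩
        · obtain ⟨k, rfl⟩ := Fin.exists_succAbove_eq hl
          refine ⟨Polynomial.C (Ideal.Quotient.mk P0 (X k)) +
            Polynomial.C (Ideal.Quotient.mk P0 (C (a k))) * Polynomial.X, ?_⟩
          simp [θ, q, ι, pullVar]
    have hdim : ringKrullDim (MvPolynomial (Fin (m + 2)) ℂ ⧸ P) ≤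
        ringKrullDim (Polynomial (MvPolynomial (Fin (m + 1)) ℂ ⧸ P0)) :=
      ringKrullDim_le_of_surjective (R := Polynomial (MvPolynomial (Fin (m + 1)) ℂ ⧸ P0)) θ hθ
    rw [Polynomial.ringKrullDim_of_isNoetherianRing, hs0] at hdim
    obtain ⟨s, hs, -⟩ := FieldDim.exists_dim_trdeg ℂ (MvPolynomial (Fin (m + 2)) ℂ ⧸ P)
    rw [hs] at hdim
    have hsle : s ≤ s0 + 1 := by exact_mod_cast hdim
    have h := FieldDim.height_add_dim_quotient ℂ (MvPolynomial (Fin (m + 2)) ℂ) P
    rw [hs, MvPolynomial.ringKrullDim_of_isNoetherianRing, ringKrullDim_eq_zero_of_field,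
      zero_add, Nat.card_fin] at h
    rcases eq_or_ne P.height ⊤ with htop | hne
    · rw [htop]; exact le_top
    · obtain ⟨c, hc⟩ := ENat.ne_top_iff_exists.mp hne
      rw [← hc] at h ⊢
      have h' : c + s = m + 2 := Nat.cast_injective (R := WithBot ℕ∞) (by simpa using h)
      exact_mod_cast (by omega : d ≤ c)

end Groth.Agent.H7Lines
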