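import Groth.Agent.H7HypSeq.Coord
import Mathlib

/-!
Expansion of a form along a coordinate line after a shear moving a chosen point to it.
-/

set_option autoImplicit false
universe u

namespace Groth.Agent.H7Lines
open MvPolynomial Groth.Agent.H7HypSeq

variable {m d : ℕ} {R : Type} [CommRing R]

/-- the shear `x_{i0} ↦ x_{i0}`, `x_k ↦ x_k + a_k x_{i0}`. -/
noncomputable def shear (i0 : Fin (m + 2)) (a : Fin (m + 1) → R) :
    Fin (m + 2) → MvPolynomial (Fin (m + 2)) R :=
  Fin.insertNth (α := fun _ => MvPolynomial (Fin (m + 2)) R) i0 (X i0)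
    fun k => X (i0.succAbove k) + C (a k) * X i0

/-- the pullback of the variables of the hyperplane `x_{i0} = 0` along the inverse shear. -/
noncomputable def pullVar (i0 : Fin (m + 2)) (a : Fin (m + 1) → R) :
    Fin (m + 1) → MvPolynomial (Fin (m + 2)) R :=
  fun k => X (i0.succAbove k) - C (a k) * X i0

/-- rebuild a form of degree `d` through `[1 : a]` from the tuple of its polar forms. -/
noncomputable def assemble (i0 : Fin (m + 2)) (c : Idx m d → R) (a : Fin (m + 1) → R) :
    MvPolynomial (Fin (m + 2)) R :=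
  ∑ j : Fin d, X i0 ^ (d - 1 - j.1) * aeval (pullVar i0 a) (formOf m d c j)

theorem map_assemble {S : Type} [CommRing S] (f : R →+* S) (i0 : Fin (m + 2)) (c : Idx m d → R)
    (a : Fin (m + 1) → R) :
    MvPolynomial.map f (assemble i0 c a) = assemble i0 (f ∘ c) (f ∘ a) := by
  simp only [assemble, map_sum, map_mul, map_pow, map_X]
  refine Finset.sum_congr rfl fun j _ => congrArg _ ?_
  rw [← map_formOf m d f c j]
  induction formOf m d c j using MvPolynomial.induction_on with
  | C r => simp
  | add p q hp hq => simp only [map_add]; rw [hp, hq]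
  | mul_X p k hp =>
    simp only [map_mul, aeval_X, map_X]; rw [hp]
    simp [pullVar]

/-- the monomial of degree `d` belonging to an index. -/
noncomputable def toExp (i0 : Fin (m + 2)) (i : Idx m d) : Fin (m + 2) →₀ ℕ :=
  Finsupp.equivFunOnFinite.symm (Fin.insertNth (α := fun _ => ℕ) i0 (d - 1 - i.1.1) fun k => i.2.1 k)

theorem toExp_same (i0 : Fin (m + 2)) (i : Idx m d) : toExp i0 i i0 = d - 1 - i.1.1 := by
  simp [toExp]

theorem toExp_succAbove (i0 : Fin (m + 2)) (i : Idx m d) (k : Fin (m + 1)) :
    toExp i0 i (i0.succAbove k) = i.2.1 k := by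
  simp [toExp]

theorem toExp_degree (i0 : Fin (m + 2)) (i : Idx m d) : (toExp i0 i).degree = d := by
  rw [Finsupp.degree_eq_sum, Fin.sum_univ_succAbove _ i0, toExp_same]
  simp only [toExp_succAbove]
  have h := i.2.2
  rw [Finsupp.degree_eq_sum] at h
  rw [h]
  have := i.1.2
  omega

theorem toExp_injective (i0 : Fin (m + 2)) : Function.Injective (toExp (m := m) (d := d) i0) := by
  intro i i' h
  obtain ⟨j, γ⟩ := i
  obtain ⟨j', γ'⟩ := i'
  have h0 := DFunLike.congr_fun h i0
  rw [toExp_same, toExp_same] at h0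
  have hj : j = j' := Fin.ext (by have := j.2; have := j'.2; simp only at h0; omega)
  subst hj
  refine congrArg (Sigma.mk j) (Subtype.ext (Finsupp.ext fun k => ?_))
  have hk := DFunLike.congr_fun h (i0.succAbove k)
  rwa [toExp_succAbove, toExp_succAbove] at hk

theorem toExp_ne_single (i0 : Fin (m + 2)) (i : Idx m d) : toExp i0 i ≠ Finsupp.single i0 d := by
  intro h
  have := DFunLike.congr_fun h i0
  rw [toExp_same, Finsupp.single_eq_same] at this
  have := i.1.2
  omega

theorem exists_toExp (i0 : Fin (m + 2)) (D : Fin (m + 2) →₀ ℕ) (hD : D.degree = d)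
    (hne : D ≠ Finsupp.single i0 d) : ∃ i : Idx m d, toExp i0 i = D := by
  rw [Finsupp.degree_eq_sum, Fin.sum_univ_succAbove _ i0] at hD
  have hlt : D i0 < d := by
    by_contra hge
    refine hne (Finsupp.ext fun l => ?_)
    rcases eq_or_ne l i0 with rfl | hl
    · rw [Finsupp.single_eq_same]; omega
    · obtain ⟨k, rfl⟩ := Fin.exists_succAbove_eq hl
      rw [Finsupp.single_eq_of_ne hl]
      have := Finset.single_le_sum (f := fun k => D (i0.succAbove k)) (fun _ _ => Nat.zero_le _)
        (Finset.mem_univ k)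
      omega
  refine ⟨⟨⟨d - 1 - D i0, by omega⟩,
    ⟨Finsupp.equivFunOnFinite.symm fun k => D (i0.succAbove k), ?_⟩⟩, ?_⟩
  · rw [Finsupp.degree_eq_sum]
    simp only [Finsupp.coe_equivFunOnFinite_symm]
    omega
  · refine Finsupp.ext fun l => ?_
    rcases eq_or_ne l i0 with rfl | hl
    · rw [toExp_same]; dsimp only; omega
    · obtain ⟨k, rfl⟩ := Fin.exists_succAbove_eq hl
      rw [toExp_succAbove]; simp

/-- a form without the monomial `x_{i0}^d`, sorted by powers of `x_{i0}`. -/
theorem eq_sum_rename (i0 : Fin (m + 2)) (f : MvPolynomial (Fin (m + 2)) R)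
    (hf : f.IsHomogeneous d) (h0 : coeff (Finsupp.single i0 d) f = 0) :
    f = ∑ j : Fin d, X i0 ^ (d - 1 - j.1) *
      rename i0.succAbove (formOf m d (fun i => coeff (toExp i0 i) f) j) := by
  classical
  have hterm : ∀ i : Idx m d, X i0 ^ (d - 1 - i.1.1) *
      rename i0.succAbove (monomial i.2.1 (coeff (toExp i0 i) f)) =
        monomial (toExp i0 i) (coeff (toExp i0 i) f) := by
    intro i
    rw [rename_monomial, X_pow_eq_monomial, monomial_mul, one_mul]
    refine congrArg (fun D => monomial D (coeff (toExp i0 i) f)) (Finsupp.ext fun l => ?_)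
    rw [Finsupp.add_apply]
    rcases eq_or_ne l i0 with rfl | hl
    · rw [toExp_same, Finsupp.single_eq_same,
        Finsupp.mapDomain_notin_range _ _ (by simp [Fin.range_succAbove]), add_zero]
    · obtain ⟨k, rfl⟩ := Fin.exists_succAbove_eq hl
      rw [toExp_succAbove, Finsupp.single_eq_of_ne hl,
        Finsupp.mapDomain_apply Fin.succAbove_right_injective, zero_add]
  simp only [formOf, map_sum, Finset.mul_sum]
  rw [← Fintype.sum_sigma' (fun (j : Fin d) (γ : {γ : Fin (m + 1) →₀ ℕ // γ.degree = j.1 + 1}) =>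
    X i0 ^ (d - 1 - j.1) * rename i0.succAbove (monomial γ.1 (coeff (toExp i0 ⟨j, γ⟩) f)))]
  simp only [hterm]
  refine MvPolynomial.ext _ _ fun D => ?_
  simp only [coeff_sum, coeff_monomial]
  by_cases hD : ∃ i : Idx m d, toExp i0 i = D
  · obtain ⟨i, rfl⟩ := hD
    rw [Finset.sum_eq_single i]
    · simp
    · intro b _ hb
      rw [if_neg fun h => hb (toExp_injective i0 h)]
    · simp
  · rw [Finset.sum_eq_zero fun i _ => if_neg fun h => hD ⟨i, h⟩]
    by_contra hne
    refine hD (exists_toExp i0 D ?_ ?_)
    · by_contra hd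
      exact hne (hf.coeff_eq_zero hd)
    · rintro rfl
      exact hne h0

/-- a form through `[1 : a]` is assembled from its polar forms at that point. -/
theorem eq_assemble (i0 : Fin (m + 2)) (a : Fin (m + 1) → R) (f : MvPolynomial (Fin (m + 2)) R)
    (hf : f.IsHomogeneous d)
    (h0 : eval (Fin.insertNth (α := fun _ => R) i0 1 a) f = 0) :
    f = assemble (d := d) i0 (fun i : Idx m d => coeff (toExp i0 i) (aeval (shear i0 a) f)) a := by
  classical
  set g := aeval (shear i0 a) f with hg
  have hgd : g.IsHomogeneous d := by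
    have hσ : ∀ l, (shear i0 a l).IsHomogeneous 1 := by
      intro l
      rcases eq_or_ne l i0 with rfl | hl
      · simpa [shear] using isHomogeneous_X R l
      · obtain ⟨k, rfl⟩ := Fin.exists_succAbove_eq hl
        simp only [shear, Fin.insertNth_apply_succAbove]
        exact (isHomogeneous_X R _).add (isHomogeneous_C_mul_X _ _)
    have := hf.aeval (shear i0 a) hσ
    rwa [one_mul] at this
  have hg0 : coeff (Finsupp.single i0 d) g = 0 := by
    have he : eval (Pi.single i0 (1 : R)) g = coeff (Finsupp.single i0 d) g := by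
      rw [eval_eq', Finset.sum_eq_single (Finsupp.single i0 d)]
      · simp [Finsupp.single_apply, Pi.single_apply]
      · intro D hD hne
        have hdeg : D.degree = d := by
          by_contra hd
          exact mem_support_iff.mp hD (hgd.coeff_eq_zero hd)
        obtain ⟨i, rfl⟩ := exists_toExp i0 D hdeg hne
        have hpos : ∃ k, i.2.1 k ≠ 0 := by
          by_contra! hall
          have := i.2.2
          rw [show i.2.1 = 0 from Finsupp.ext hall] at this
          simp at this
        obtain ⟨k, hk⟩ := hpos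
        refine mul_eq_zero_of_right _ (Finset.prod_eq_zero (Finset.mem_univ (i0.succAbove k)) ?_)
        rw [Pi.single_eq_of_ne (Fin.succAbove_ne i0 k), zero_pow]
        rwa [toExp_succAbove]
      · intro h
        rw [notMem_support_iff.mp h, zero_mul]
    rw [← he, hg, ← h0]
    rw [show eval (Pi.single i0 (1 : R)) (aeval (shear i0 a) f) =
      aeval (fun l => eval (Pi.single i0 (1 : R)) (shear i0 a l)) f from
      (comp_aeval_apply (shear i0 a) (aeval (Pi.single i0 (1 : R))) f)]
    rw [show eval (Fin.insertNth (α := fun _ => R) i0 1 a) f =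
      aeval (Fin.insertNth (α := fun _ => R) i0 1 a) f from rfl]
    congr 2
    funext l
    rcases eq_or_ne l i0 with rfl | hl
    · simp [shear]
    · obtain ⟨k, rfl⟩ := Fin.exists_succAbove_eq hl
      simp [shear, Fin.succAbove_ne]
  let τ : Fin (m + 2) → MvPolynomial (Fin (m + 2)) R :=
    Fin.insertNth (α := fun _ => MvPolynomial (Fin (m + 2)) R) i0 (X i0) (pullVar i0 a)
  have hinv : aeval τ g = f := by
    rw [hg, ← AlgHom.comp_apply, comp_aeval]
    rw [show (fun l => aeval τ (shear i0 a l)) = X from funext fun l => ?_, aeval_X_left_apply]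
    rcases eq_or_ne l i0 with rfl | hl
    · simp [shear, τ]
    · obtain ⟨k, rfl⟩ := Fin.exists_succAbove_eq hl
      simp [shear, τ, pullVar]
  conv_lhs => rw [← hinv, eq_sum_rename i0 g hgd hg0]
  rw [map_sum]
  refine Finset.sum_congr rfl fun j _ => ?_
  rw [map_mul, map_pow, aeval_X, aeval_rename]
  simp [τ, Function.comp_def]

end Groth.Agent.H7Lines
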