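import Groth.Agent.H7Lines.Cone
import Groth.Agent.H25Param.Incidence

/-!
A general form has all its tuples of polar forms in general position.
-/

set_option autoImplicit false
universe u

namespace Groth.Agent.H7Lines
open MvPolynomial Groth.Agent.H7HypSeq

variable (m d : ℕ)

/-- monomials of degree `d` in `m + 2` variables. -/
abbrev Mon : Type := {D : Fin (m + 2) →₀ ℕ // D.degree = d}

/-- coefficient coordinates of a form. -/
noncomputable def formEquiv : LefPen.Form (m + 1) ℂ d ≃ₗ[ℂ] (Mon m d → ℂ) where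
  toFun Φ D := coeff D.1 Φ.1
  invFun c := ⟨∑ D : Mon m d, monomial D.1 (c D),
    IsHomogeneous.sum _ _ _ fun D _ => isHomogeneous_monomial _ D.2⟩
  map_add' Φ Ψ := by ext D; simp
  map_smul' a Φ := by ext D; simp
  left_inv Φ := by
    refine Subtype.ext (MvPolynomial.ext _ _ fun D => ?_)
    simp only [coeff_sum, coeff_monomial]
    by_cases hD : D.degree = d
    · rw [Finset.sum_eq_single (⟨D, hD⟩ : Mon m d)]
      · simp
      · intro b _ hb; rw [if_neg fun h => hb (Subtype.ext h)]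
      · simp
    · rw [Finset.sum_eq_zero fun b _ => if_neg fun h => hD (by rw [← h]; exact b.2),
        MvPolynomial.IsHomogeneous.coeff_eq_zero (show Φ.1.IsHomogeneous d from Φ.2) hD]
  right_inv c := by
    funext D
    simp only [coeff_sum, coeff_monomial]
    rw [Finset.sum_eq_single D]
    · simp
    · intro b _ hb; rw [if_neg fun h => hb (Subtype.ext h)]
    · simp

variable {m d}

theorem card_idx_lt : Fintype.card (Idx m d) < Fintype.card (Mon m d) := by
  refine Fintype.card_lt_of_injective_not_surjective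
    (fun i => (⟨toExp 0 i, toExp_degree 0 i⟩ : Mon m d))
    (fun i i' h => toExp_injective 0 (congrArg Subtype.val h)) fun hs => ?_
  obtain ⟨i, hi⟩ := hs ⟨Finsupp.single 0 d, Finsupp.degree_single 0 d⟩
  exact toExp_ne_single 0 i (congrArg Subtype.val hi)

/-- each component of the bad tuples misses a general form, in each chart. -/
theorem exists_avoid_component (hd : d + 2 ≤ m) (i0 : Fin (m + 2))
    (Q : Ideal (MvPolynomial (Idx m d) ℂ)) (hQ : Q ∈ (badIdeal m d).minimalPrimes) :
    ∃ E : MvPolynomial (Mon m d) ℂ, E ≠ 0 ∧ ∀ (a : Fin (m + 1) → ℂ) (G : Tup m d ℂ),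
      (∀ q ∈ Q, eval (coord G) q = 0) →
        eval (fun D : Mon m d => coeff D.1 (assemble i0 (coord G) a)) E = 0 := by
  classical
  haveI := hQ.1.1
  let A := MvPolynomial (Idx m d) ℂ
  haveI : IsDomain (A ⧸ Q) := Ideal.Quotient.isDomain Q
  obtain ⟨s, hs, hle⟩ := exists_trdeg_le_of_minimal hd Q hQ
  let cU : Idx m d → MvPolynomial (Fin (m + 1)) (A ⧸ Q) := fun i => C (Ideal.Quotient.mk Q (X i))
  let P := assemble i0 cU X
  have htr : Algebra.trdeg ℂ (MvPolynomial (Fin (m + 1)) (A ⧸ Q)) <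
      (Fintype.card (Mon m d) : Cardinal) := by
    rw [H25Param.trdeg_mvPolynomial, hs, Fintype.card_fin, ← Nat.cast_add, Nat.cast_lt]
    exact lt_of_le_of_lt hle card_idx_lt
  obtain ⟨E, hE0, hE⟩ := H25Param.exists_avoid (k := ℂ) (fun D : Mon m d => coeff D.1 P) htr
  refine ⟨E, hE0, fun a G hG => ?_⟩
  let pt : A ⧸ Q →ₐ[ℂ] ℂ := Ideal.Quotient.liftₐ Q (aeval (coord G)) hG
  let p : MvPolynomial (Fin (m + 1)) (A ⧸ Q) →ₐ[ℂ] ℂ := aevalTower pt a
  have hmap : MvPolynomial.map p.toRingHom P = assemble i0 (coord G) a := by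
    refine (map_assemble p.toRingHom i0 cU X).trans ?_
    congr 1
    · funext i
      show p (C (Ideal.Quotient.mk Q (X i))) = _
      rw [aevalTower_C]
      show aeval (coord G) (X i : A) = _
      rw [aeval_X]
    · funext k
      show p (X k) = _
      rw [aevalTower_X]
  have := hE p
  rw [← hmap]
  simp only [coeff_map]
  exact this

theorem exists_component {G : Tup m d ℂ} (hG : G ∈ badSet m d) :
    ∃ Q ∈ (badIdeal m d).minimalPrimes, ∀ q ∈ Q, eval (coord G) q = 0 := by
  classical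
  by_contra! hc
  choose q hqQ hq using hc
  have hfin := (badIdeal m d).finite_minimalPrimes_of_isNoetherianRing
  let μ := ∏ Q ∈ hfin.toFinset.attach, q Q.1 (hfin.mem_toFinset.mp Q.2)
  have hμ : μ ∈ badIdeal m d := by
    rw [← (badIdeal_isRadical (m := m) (d := d)).radical, ← Ideal.sInf_minimalPrimes, Ideal.mem_sInf]
    intro Q hQ
    haveI := hQ.1.1
    exact Ideal.IsPrime.prod_mem_iff.mpr
      ⟨⟨Q, hfin.mem_toFinset.mpr hQ⟩, Finset.mem_attach _ _, hqQ Q hQ⟩
  have := hμ G hG
  rw [map_prod, Finset.prod_eq_zero_iff] at this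
  obtain ⟨Q, -, h⟩ := this
  exact hq _ _ h

theorem isGeneric_polar (hd : d + 2 ≤ m) :
    LefPen.IsGeneric ℂ {Φ : LefPen.Form (m + 1) ℂ d | ∀ (i0 : Fin (m + 2)) (a : Fin (m + 1) → ℂ),
      eval (Fin.insertNth (α := fun _ => ℂ) i0 1 a) Φ.1 = 0 →
        polar (d := d) i0 a Φ.1 ∉ badSet m d} := by
  classical
  have hfin := (badIdeal m d).finite_minimalPrimes_of_isNoetherianRing
  haveI := hfin.fintype
  choose E hE0 hE using fun (p : Fin (m + 2) × (badIdeal m d).minimalPrimes) =>
    exists_avoid_component hd p.1 p.2.1 p.2.2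
  refine H25Param.isGeneric_of_eval (Module.Basis.ofEquivFun (formEquiv m d)) (∏ p, E p)
    (Finset.prod_ne_zero_iff.mpr fun p _ => hE0 p) fun Φ hΦ => ?_
  intro i0 a h0 hbad
  obtain ⟨Q, hQ, hzero⟩ := exists_component hbad
  refine hΦ ?_
  rw [map_prod]
  refine Finset.prod_eq_zero (Finset.mem_univ (i0, ⟨Q, hQ⟩)) ?_
  have := hE (i0, ⟨Q, hQ⟩) a _ hzero
  rw [← eq_assemble_polar i0 a Φ.1 Φ.2 h0] at this
  have heq : (fun D : Mon m d => (Module.Basis.ofEquivFun (formEquiv m d)).repr Φ D) =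
      fun D : Mon m d => coeff D.1 Φ.1 := by
    funext D
    rw [Module.Basis.ofEquivFun_repr_apply]
    rfl
  rw [heq]
  exact this

/-- Lines through every point of a general hypersurface form a family of the expected dimension. -/
theorem isGeneric_codimGE_cone (hd : d + 2 ≤ m) :
    LefPen.IsGeneric ℂ {Φ : LefPen.Form (m + 1) ℂ d |
      ∀ v : Fin (m + 2) → ℂ, v ≠ 0 → eval v Φ.1 = 0 →
        LefPen.CodimGE ℂ {w : Fin (m + 2) → ℂ | ∀ s t : ℂ, eval (s • v + t • w) Φ.1 = 0} d} := by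
  refine H25Param.isGeneric_mono ?_ (isGeneric_polar hd)
  intro Φ hΦ v hv h0
  obtain ⟨i0, hi0⟩ := Function.ne_iff.mp hv
  have hi0' : v i0 ≠ 0 := hi0
  let a : Fin (m + 1) → ℂ := fun k => v (i0.succAbove k) / v i0
  have hv' : Fin.insertNth (α := fun _ => ℂ) i0 1 a = (v i0)⁻¹ • v := by
    funext l
    rcases eq_or_ne l i0 with rfl | hl
    · simp [hi0']
    · obtain ⟨k, rfl⟩ := Fin.exists_succAbove_eq hl
      simp [a, div_eq_inv_mul]
  have h1 : eval (Fin.insertNth (α := fun _ => ℂ) i0 1 a) Φ.1 = 0 := by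
    rw [hv', eval_eq']
    rw [eval_eq'] at h0
    have : ∀ D ∈ Φ.1.support, coeff D Φ.1 * ∏ i, ((v i0)⁻¹ • v) i ^ D i =
        (v i0)⁻¹ ^ d * (coeff D Φ.1 * ∏ i, v i ^ D i) := by
      intro D hD
      have hdeg : ∑ i, D i = d := by
        rw [← Finsupp.degree_eq_sum]
        by_contra hne
        exact mem_support_iff.mp hD
          (MvPolynomial.IsHomogeneous.coeff_eq_zero (show Φ.1.IsHomogeneous d from Φ.2) hne)
      simp only [Pi.smul_apply, smul_eq_mul, mul_pow, Finset.prod_mul_distrib,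
        Finset.prod_pow_eq_pow_sum, hdeg]
      ring
    rw [Finset.sum_congr rfl this, ← Finset.mul_sum, h0, mul_zero]
  have h := codimGE_cone (show d ≤ m by omega) i0 a Φ.1 Φ.2 h1 (hΦ i0 a h1)
  convert h using 2
  ext w
  simp only [Set.mem_setOf_eq, hv']
  constructor
  · intro hw s t
    rw [smul_smul]
    exact hw _ t
  · intro hw s t
    have := hw (s * v i0) t
    rwa [smul_smul, mul_assoc, mul_inv_cancel₀ hi0', mul_one] at this

end Groth.Agent.H7Lines
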